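import Groth.Agent.AlgStLib.Stack
import Groth.Agent.ConstQuot.UnivHomeo
import Groth.Agent.H23.RatProductK
import Groth.Prelude.Def_StGerb
import Groth.Prelude.Def_StCoarse

/-!
# Geometric points of a gerbe, and coarse moduli
-/

set_option backward.isDefEq.respectTransparency false
set_option backward.isDefEq.respectTransparency.types false

universe u

open CategoryTheory CategoryTheory.Functor AlgebraicGeometry Opposite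

namespace Groth.Agent.GerbCoarse

open Groth.Agent.FibBase Groth.Agent.AlgStLib

variable {S : Scheme.{u}}

/-- A covering of the spectrum of an algebraically closed field has a section. -/
theorem id_mem_of_isAlgClosed {Ω : Type u} [Field Ω] [IsAlgClosed Ω] {t : Spec (CommRingCat.of Ω) ⟶ S}
    {T : Over S} (hT : T = Over.mk t) {R : Sieve T} (hR : R ∈ QuotSh.J Scheme.fppfPrecoverage S T) :
    R (𝟙 T) := by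
  subst hT
  rw [GrothendieckTopology.mem_over_iff] at hR
  replace hR : Sieve.overEquiv (Over.mk t) R ∈ Scheme.fppfPrecoverage.toGrothendieck (Spec (CommRingCat.of Ω)) := hR
  obtain ⟨R₀, hR₀, hle⟩ := (Precoverage.mem_toGrothendieck_iff_of_isStableUnderComposition (J := Scheme.fppfPrecoverage)).1 hR
  let o : ↥(Spec (CommRingCat.of Ω)) := IsLocalRing.closedPoint Ω
  obtain ⟨U, w, hw, z, -⟩ := (Presieve.mem_comap_jointlySurjectivePrecoverage_iff Scheme.forget).1 hR₀.1 o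
  have : LocallyOfFinitePresentation w := (hR₀.2 hw).2
  have : Nonempty ↥(Over.mk w).left := ⟨z⟩
  have : LocallyOfFiniteType (Over.mk w).hom := inferInstanceAs (LocallyOfFiniteType w)
  obtain ⟨s⟩ := H23.RatProductK.exists_point (Over.mk w)
  have hs : s.left ≫ w = 𝟙 _ := Over.w s
  let wo : Over.mk (w ≫ t) ⟶ Over.mk t := Over.homMk w rfl
  let so : Over.mk t ⟶ Over.mk (w ≫ t) := Over.homMk s.left ((reassoc_of% hs) t)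
  have h1 : R wo := (Sieve.overEquiv_iff R w).1 (hle _ _ hw)
  rw [show 𝟙 (Over.mk t) = so ≫ wo from Over.OverMorphism.ext hs.symm]
  exact R.downward_closed h1 so

variable {𝒳 𝒴 : AlgSt.Cat S}

theorem geomPtBij_comp (h𝒳 : FibCat.IsFibGrpd 𝒳.p) (h𝒴 : FibCat.IsFibGrpd 𝒴.p) {F : 𝒳 ⥤ᵇ 𝒴}
    (hF : Gerb.IsGerbeOver (QuotSh.J Scheme.fppfPrecoverage S) F) {M : AlgSp.Sp S} {π : 𝒴 ⥤ᵇ AlgSt.ofSp M}
    (h : AlgSt.GeomPtBij π) : AlgSt.GeomPtBij (BasedFunctor.comp F π) := by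
  intro Ω _ _ t
  have := h𝒳
  have := h𝒴
  refine ⟨fun m => ?_, fun x y hxy => ?_⟩
  · obtain ⟨y, hy⟩ := (h Ω t).1 m
    obtain ⟨R, hR, hloc⟩ := hF.1 y.1
    obtain ⟨x, g, hg⟩ := hloc (𝟙 _) (id_mem_of_isAlgClosed y.2 hR)
    have hg' : 𝒴.p.IsHomLift (𝟙 (Over.mk t)) g := isHomLift_id_congr y.2 hg
    have hx : 𝒳.p.obj x = Over.mk t :=
      (F.w_obj x).symm.trans (IsHomLift.domain_eq 𝒴.p (𝟙 (Over.mk t)) g)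
    refine ⟨⟨x, hx⟩, ?_⟩
    rw [← hy]
    exact ConstQuot.fibSec_eq_of_hom π ⟨F.obj x, (F.w_obj x).trans hx⟩ y (π.map g)
      (π.preserves_isHomLift (𝟙 (Over.mk t)) g)
  · obtain ⟨e⟩ := (h Ω t).2 ⟨F.obj x.1, (F.w_obj x.1).trans x.2⟩ ⟨F.obj y.1, (F.w_obj y.1).trans y.2⟩ hxy
    let b := ofFiberIso e
    have hb : 𝒴.p.IsHomLift (𝟙 (𝒳.p.obj x.1)) b.hom := isHomLift_id_congr x.2.symm (ofFiberIso_lift e)
    obtain ⟨R, hR, hloc⟩ := hF.2 x.1 y.1 b.hom hb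
    obtain ⟨x₀, φ, ψ, hφ, hψ, -⟩ := hloc (𝟙 _) (id_mem_of_isAlgClosed x.2 hR)
    have := isIso_of_lift (p := 𝒳.p) (𝟙 (𝒳.p.obj x.1)) φ
    have := isIso_of_lift (p := 𝒳.p) (𝟙 (𝒳.p.obj x.1)) ψ
    refine ⟨fiberIsoMk ((asIso φ).symm ≪≫ asIso ψ) ?_⟩
    refine isHomLift_id_congr x.2 ?_
    have h1 : 𝒳.p.IsHomLift (𝟙 (𝒳.p.obj x.1)) (asIso φ).hom := hφ
    have := IsHomLift.lift_id_inv 𝒳.p (𝒳.p.obj x.1) (asIso φ)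
    show 𝒳.p.IsHomLift _ ((asIso φ).inv ≫ ψ)
    infer_instance

theorem geomPtBij_of_iso {M : AlgSp.Sp S} {π π' : 𝒳 ⥤ᵇ AlgSt.ofSp M} (e : π ≅ π') (h : AlgSt.GeomPtBij π) :
    AlgSt.GeomPtBij π' := by
  have key : ∀ {T : Over S} (x : 𝒳.p.Fiber T), AlgSt.fibSec π x = AlgSt.fibSec π' x := fun {T} x => by
    have := isoApp_lift e x.2
    let A : (AlgSt.ofSp M).p.Fiber T := ⟨π.obj x.1, (π.w_obj x.1).trans x.2⟩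
    let B : (AlgSt.ofSp M).p.Fiber T := ⟨π'.obj x.1, (π'.w_obj x.1).trans x.2⟩
    exact ConstQuot.fibSec_eq_of_hom (BasedFunctor.id (AlgSt.ofSp M)) A B (isoApp e x.1).hom (isoApp_lift e x.2)
  intro Ω _ _ t
  exact ⟨fun m => by obtain ⟨x, hx⟩ := (h Ω t).1 m; exact ⟨x, (key x).symm.trans hx⟩,
    fun x y hxy => (h Ω t).2 x y ((key x).trans (hxy.trans (key y).symm))⟩

theorem geomPtBij_of_comp (h𝒳 : FibCat.IsFibGrpd 𝒳.p) (h𝒴 : FibCat.IsFibGrpd 𝒴.p) {F : 𝒳 ⥤ᵇ 𝒴}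
    (hF : Gerb.IsGerbeOver (QuotSh.J Scheme.fppfPrecoverage S) F) {M : AlgSp.Sp S} {π : 𝒴 ⥤ᵇ AlgSt.ofSp M}
    (h : AlgSt.GeomPtBij (BasedFunctor.comp F π)) : AlgSt.GeomPtBij π := by
  intro Ω _ _ t
  have := h𝒴
  have lift : ∀ y : 𝒴.p.Fiber (Over.mk t), ∃ x : 𝒳.p.Fiber (Over.mk t),
      ∃ g : F.obj x.1 ⟶ y.1, 𝒴.p.IsHomLift (𝟙 (Over.mk t)) g := fun y => by
    obtain ⟨R, hR, hloc⟩ := hF.1 y.1
    obtain ⟨x, g, hg⟩ := hloc (𝟙 _) (id_mem_of_isAlgClosed y.2 hR)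
    have hg' : 𝒴.p.IsHomLift (𝟙 (Over.mk t)) g := isHomLift_id_congr y.2 hg
    exact ⟨⟨x, (F.w_obj x).symm.trans (IsHomLift.domain_eq 𝒴.p (𝟙 (Over.mk t)) g)⟩, g, hg'⟩
  have key : ∀ (x : 𝒳.p.Fiber (Over.mk t)) (y : 𝒴.p.Fiber (Over.mk t)) (g : F.obj x.1 ⟶ y.1),
      𝒴.p.IsHomLift (𝟙 (Over.mk t)) g → AlgSt.fibSec (BasedFunctor.comp F π) x = AlgSt.fibSec π y :=
    fun x y g hg => ConstQuot.fibSec_eq_of_hom π ⟨F.obj x.1, (F.w_obj x.1).trans x.2⟩ y (π.map g)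
      (π.preserves_isHomLift (𝟙 (Over.mk t)) g)
  refine ⟨fun m => ?_, fun y y' hy => ?_⟩
  · obtain ⟨x, hx⟩ := (h Ω t).1 m
    exact ⟨⟨F.obj x.1, (F.w_obj x.1).trans x.2⟩, hx⟩
  · obtain ⟨x, g, hg⟩ := lift y
    obtain ⟨x', g', hg'⟩ := lift y'
    obtain ⟨e⟩ := (h Ω t).2 x x' ((key x y g hg).trans (hy.trans (key x' y' g' hg').symm))
    let A : 𝒴.p.Fiber (Over.mk t) := ⟨F.obj x.1, (F.w_obj x.1).trans x.2⟩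
    let B : 𝒴.p.Fiber (Over.mk t) := ⟨F.obj x'.1, (F.w_obj x'.1).trans x'.2⟩
    have := isIso_of_lift (p := 𝒴.p) (𝟙 (Over.mk t)) g
    have := isIso_of_lift (p := 𝒴.p) (𝟙 (Over.mk t)) g'
    have he := ofFiberIso_lift e
    let eA : A ≅ B := fiberIsoMk (a := A) (b := B) (F.toFunctor.mapIso (ofFiberIso e))
      (F.preserves_isHomLift (𝟙 (Over.mk t)) (ofFiberIso e).hom)
    exact ⟨(fiberIsoMk (a := A) (b := y) (asIso g) hg).symm ≪≫ eA ≪≫ fiberIsoMk (a := B) (b := y') (asIso g') hg'⟩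

/-- Coarse moduli spaces of a gerbe and of its base agree. -/
theorem isCoarseModuli_iff (h𝒳 : FibCat.IsFibGrpd 𝒳.p) (h𝒴 : FibCat.IsFibGrpd 𝒴.p) {F : 𝒳 ⥤ᵇ 𝒴}
    (hF : Gerb.IsGerbeOver (QuotSh.J Scheme.fppfPrecoverage S) F)
    (huniv : ∀ (N : AlgSp.Sp S), AlgSp.IsAlgSpace N → ∀ φ : 𝒳 ⥤ᵇ AlgSt.ofSp N,
      ∃ ψ : 𝒴 ⥤ᵇ AlgSt.ofSp N, Nonempty (BasedFunctor.comp F ψ ≅ φ) ∧
        ∀ ψ' : 𝒴 ⥤ᵇ AlgSt.ofSp N, Nonempty (BasedFunctor.comp F ψ' ≅ φ) → Nonempty (ψ' ≅ ψ)) :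
    ((∃ (M : AlgSp.Sp S) (π : 𝒴 ⥤ᵇ AlgSt.ofSp M), AlgSt.IsCoarseModuli π) ↔
        ∃ (M : AlgSp.Sp S) (π : 𝒳 ⥤ᵇ AlgSt.ofSp M), AlgSt.IsCoarseModuli π) ∧
      ∀ (M : AlgSp.Sp S) (π : 𝒴 ⥤ᵇ AlgSt.ofSp M), AlgSt.IsCoarseModuli π →
        AlgSt.IsCoarseModuli (BasedFunctor.comp F π) := by
  have fwd : ∀ (M : AlgSp.Sp S) (π : 𝒴 ⥤ᵇ AlgSt.ofSp M), AlgSt.IsCoarseModuli π →
      AlgSt.IsCoarseModuli (BasedFunctor.comp F π) := fun M π hπ => by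
    refine ⟨⟨hπ.1.1, fun N hN φ => ?_⟩, geomPtBij_comp h𝒳 h𝒴 hF hπ.2⟩
    obtain ⟨ψ, ⟨i⟩, hψ⟩ := huniv N hN φ
    obtain ⟨g, ⟨j⟩, hg⟩ := hπ.1.2 N hN ψ
    exact ⟨g, ⟨whiskerLeftIso F j ≪≫ i⟩, fun g' ⟨j'⟩ => hg g' (hψ _ ⟨j'⟩)⟩
  refine ⟨⟨fun ⟨M, π, hπ⟩ => ⟨M, _, fwd M π hπ⟩, fun ⟨M, π, hπ⟩ => ?_⟩, fwd⟩
  obtain ⟨ψ, ⟨i⟩, -⟩ := huniv M hπ.1.1 π
  refine ⟨M, ψ, ⟨hπ.1.1, fun N hN φ => ?_⟩, geomPtBij_of_comp h𝒳 h𝒴 hF (geomPtBij_of_iso i.symm hπ.2)⟩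
  obtain ⟨g, ⟨j⟩, hg⟩ := hπ.1.2 N hN (BasedFunctor.comp F φ)
  obtain ⟨χ, -, hχ⟩ := huniv N hN (BasedFunctor.comp F φ)
  obtain ⟨a⟩ := hχ φ ⟨Iso.refl _⟩
  obtain ⟨b⟩ := hχ (BasedFunctor.comp ψ (AlgSt.ofSpMap g)) ⟨whiskerRightIso i (AlgSt.ofSpMap g) ≪≫ j⟩
  exact ⟨g, ⟨b ≪≫ a.symm⟩, fun g' ⟨j'⟩ =>
    hg g' ⟨whiskerRightIso i.symm (AlgSt.ofSpMap g') ≪≫ whiskerLeftIso F j'⟩⟩

end Groth.Agent.GerbCoarse
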